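import Groth.Agent.Lib.Wedge2.Pullback

/-!
An exterior power of a quasi-coherent module is quasi-coherent.
-/

set_option autoImplicit false
set_option linter.style.haveILetI false
set_option linter.unusedSectionVars false
set_option backward.isDefEq.respectTransparency false
set_option backward.isDefEq.respectTransparency.types false
set_option maxHeartbeats 800000

universe u

open CategoryTheory Limits AlgebraicGeometry Opposite TopologicalSpace TensorProduct exteriorPower

noncomputable section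

namespace Groth.Agent.Wedge2

variable {X Y : Scheme.{u}} {E L : X.Modules} {p : ℕ}

/-- An exterior power of a quasi-coherent module is quasi-coherent. -/
theorem isQCoh_of_isExtPow (hE : Coh.IsQCoh E) (hL : ExtPow.IsExtPow p E L) : Coh.IsQCoh L := by
  haveI := hE
  obtain ⟨φ, hφ⟩ := ExtFil4.exists_phi hL
  have key : ∀ (U : X.affineOpens) (r : Γ(X, U.1)),
      letI := resModule L (X.basicOpen_le r)
      IsLocalizedModule (Submonoid.powers r) (resLin L (X.basicOpen_le r)) := fun U r => by
    letI := resAlg (X.basicOpen_le r)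
    letI := resModule E (X.basicOpen_le r)
    letI := resModule L (X.basicOpen_le r)
    haveI := resTower E (X.basicOpen_le r)
    haveI := resTower L (X.basicOpen_le r)
    haveI : IsLocalization.Away r Γ(X, X.basicOpen r) := U.2.isLocalization_basicOpen r
    haveI := isLocalizedModule_resLin E U.2 r
    let D : X.affineOpens := ⟨X.basicOpen r, U.2.basicOpen r⟩
    haveI := isLocalizedModule_tau (B := Γ(X, X.basicOpen r)) r (resLin E (X.basicOpen_le r)) p
    let eD : ↥(⋀[Γ(X, X.basicOpen r)]^p Γ(E, X.basicOpen r)) ≃ₗ[Γ(X, U.1)] Γ(L, X.basicOpen r) :=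
      (φ D).symm.restrictScalars Γ(X, U.1)
    haveI := IsLocalizedModule.of_linearEquiv (Submonoid.powers r)
      (tau (B := Γ(X, X.basicOpen r)) (resLin E (X.basicOpen_le r)) p) eD
    have e : resLin L (X.basicOpen_le r) =
        (eD.toLinearMap.comp (tau (B := Γ(X, X.basicOpen r)) (resLin E (X.basicOpen_le r)) p)).comp (φ U).toLinearMap := by
      refine LinearMap.ext fun m => ?_
      obtain ⟨x, rfl⟩ := (φ U).symm.surjective m
      rw [LinearMap.comp_apply, LinearEquiv.coe_coe, LinearEquiv.apply_symm_apply, LinearMap.comp_apply]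
      exact (comp_tau (B := Γ(X, X.basicOpen r)) (σ := resLin E (X.basicOpen_le r)) (ρ := resLin L (X.basicOpen_le r))
        (φ U).symm.toLinearMap (φ D).symm.toLinearMap (hφ U D (X.basicOpen_le r)) x).symm
    rw [e]
    exact IsLocalizedModule.of_linearEquiv_right (Submonoid.powers r) _ (φ U)
  refine M1.isQCoh_of_loc_affine L (fun U hU r t => ?_) (fun U hU r t ht => ?_)
  · letI := resModule L (X.basicOpen_le r)
    haveI := key ⟨U, hU⟩ r
    obtain ⟨⟨t₀, ⟨_, k, rfl⟩⟩, hk⟩ := IsLocalizedModule.surj (Submonoid.powers r) (resLin L (X.basicOpen_le r)) t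
    refine ⟨k, t₀, hk.symm.trans ?_⟩
    show (M1.ores (X.basicOpen_le r)).hom (r ^ k) • t = _
    rw [map_pow]
  · letI := resModule L (X.basicOpen_le r)
    haveI := key ⟨U, hU⟩ r
    obtain ⟨⟨_, n, rfl⟩, hn⟩ := (IsLocalizedModule.eq_zero_iff (Submonoid.powers r) (resLin L (X.basicOpen_le r))).1 ht
    exact ⟨n, hn⟩

/-- The inverse image of an exterior power of a quasi-coherent module is an exterior power. -/
theorem isExtPow_pullback' (g : Y ⟶ X) (hE : Coh.IsQCoh E) (hL : ExtPow.IsExtPow p E L) :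
    ExtPow.IsExtPow p ((Scheme.Modules.pullback g).obj E) ((Scheme.Modules.pullback g).obj L) :=
  isExtPow_pullback g hE (isQCoh_of_isExtPow hE hL) hL

/-- Exterior powers transport along isomorphisms. -/
theorem isExtPow_of_iso {E' L' : X.Modules} (eE : E ≅ E') (eL : L ≅ L') (hL : ExtPow.IsExtPow p E L) :
    ExtPow.IsExtPow p E' L' := by
  obtain ⟨φ, hφ⟩ := ExtFil4.exists_phi hL
  let aE : ∀ U : X.Opens, Γ(E, U) ≃ₗ[Γ(X, U)] Γ(E', U) := fun U =>
    LinearEquiv.ofLinear (KoszShH13.appLin eE.hom U) (KoszShH13.appLin eE.inv U)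
      (LinearMap.ext fun m => ConcreteCategory.congr_hom (congrArg (fun χ => χ.app U) eE.inv_hom_id) m)
      (LinearMap.ext fun m => ConcreteCategory.congr_hom (congrArg (fun χ => χ.app U) eE.hom_inv_id) m)
  let aL : ∀ U : X.Opens, Γ(L, U) ≃ₗ[Γ(X, U)] Γ(L', U) := fun U =>
    LinearEquiv.ofLinear (KoszShH13.appLin eL.hom U) (KoszShH13.appLin eL.inv U)
      (LinearMap.ext fun m => ConcreteCategory.congr_hom (congrArg (fun χ => χ.app U) eL.inv_hom_id) m)
      (LinearMap.ext fun m => ConcreteCategory.congr_hom (congrArg (fun χ => χ.app U) eL.hom_inv_id) m)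
  let m : ∀ U : X.affineOpens, ↥(⋀[Γ(X, U.1)]^p Γ(E, U.1)) ≃ₗ[Γ(X, U.1)] ↥(⋀[Γ(X, U.1)]^p Γ(E', U.1)) := fun U =>
    LinearEquiv.ofLinear (exteriorPower.map p (aE U.1).toLinearMap) (exteriorPower.map p (aE U.1).symm.toLinearMap)
      (by rw [← exteriorPower.map_comp, LinearEquiv.comp_symm, exteriorPower.map_id])
      (by rw [← exteriorPower.map_comp, LinearEquiv.symm_comp, exteriorPower.map_id])
  refine ⟨fun U => ((aL U.1).symm.trans (φ U)).trans (m U), fun U V h e => ?_⟩
  have hm : ∀ (W : X.affineOpens) (v : Fin p → Γ(E', W.1)), (m W).symm (ιMulti _ p v) = ιMulti _ p fun j => (aE W.1).symm (v j) :=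
    fun W v => exteriorPower.map_apply_ιMulti (aE W.1).symm.toLinearMap v
  show M1.mres L' h ((aL U.1) ((φ U).symm ((m U).symm (ιMulti _ p e)))) =
    (aL V.1) ((φ V).symm ((m V).symm (ιMulti _ p fun j => M1.mres E' h (e j))))
  rw [hm, hm]
  show M1.mres L' h (eL.hom.app U.1 ((φ U).symm (ιMulti _ p fun j => (aE U.1).symm (e j)))) =
    eL.hom.app V.1 ((φ V).symm (ιMulti _ p fun j => (aE V.1).symm (M1.mres E' h (e j))))
  rw [← M1.map_app_eq, hφ]
  exact congrArg (fun w => eL.hom.app V.1 ((φ V).symm (ιMulti _ p w))) (funext fun j => (M1.map_app_eq eE.inv h (e j)).symm)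

end Groth.Agent.Wedge2
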