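import Groth.Agent.Lib.Wedge2.Basic
import Groth.Agent.Lib.P1Split17.Basis
import Groth.Agent.Lib.CurveCoh17.Bases
import Groth.Agent.Lib.TensorMod.Invertible
import Mathlib.LinearAlgebra.Determinant

/-!
The top exterior power of a finite locally free module is invertible.
-/

set_option autoImplicit false
set_option linter.style.haveILetI false
set_option backward.isDefEq.respectTransparency false
set_option backward.isDefEq.respectTransparency.types false
set_option maxHeartbeats 800000

universe u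

open CategoryTheory Limits AlgebraicGeometry Opposite TopologicalSpace exteriorPower

noncomputable section

namespace Groth.Agent.Wedge2

open KoszShH13 (isAffBasis_top)

theorem bijective_smul_top {A : Type u} [CommRing A] {M : Type u} [AddCommGroup M] [Module A M] {h : ℕ}
    (b : Module.Basis (Fin h) A M) :
    Function.Bijective fun r : A => r • exteriorPower.ιMulti A h (⇑b) := by
  classical
  let d : ⋀[A]^h M →ₗ[A] A := exteriorPower.alternatingMapLinearEquiv b.det
  have hd : d (exteriorPower.ιMulti A h (⇑b)) = 1 := by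
    rw [exteriorPower.alternatingMapLinearEquiv_apply_ιMulti, b.det_self]
  refine ⟨fun r r' e => by simpa [map_smul, hd] using congrArg d e, fun ω => ⟨d ω, ?_⟩⟩
  show d ω • exteriorPower.ιMulti A h (⇑b) = ω
  suffices key : (d.smulRight (exteriorPower.ιMulti A h (⇑b))) = LinearMap.id from LinearMap.congr_fun key ω
  refine exteriorPower.linearMap_ext (Module.Basis.ext_alternating b fun v hv => ?_)
  let σ : Equiv.Perm (Fin h) := Equiv.ofBijective v (Finite.injective_iff_bijective.1 hv)
  show d (exteriorPower.ιMulti A h (⇑b ∘ σ)) • exteriorPower.ιMulti A h (⇑b) = exteriorPower.ιMulti A h (⇑b ∘ σ)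
  rw [AlternatingMap.map_perm (exteriorPower.ιMulti A h) (⇑b) σ, Units.smul_def, map_zsmul, hd, smul_assoc, one_smul]

variable {X : Scheme.{u}} {E L : X.Modules} {n : ℕ}

/-- The wedge of a basis is a basis. -/
theorem exists_isBas_top (hE : FlatMod.IsFinLocFreeOfRank n E) (hL : ExtPow.IsExtPow n E L) (x : X) :
    ∃ (V : X.Opens) (l : Γ(L, V)), x ∈ V ∧ P1Split.IsBas (r := 1) L V fun _ => l := by
  obtain ⟨φ, hφ⟩ := ExtFil4.exists_phi hL
  obtain ⟨D, e, hxD, he⟩ := P1Split.exists_isBas_nhd hE x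
  obtain ⟨V, hV, hxV, hVD⟩ := exists_isAffineOpen_mem_and_subset (U := D) (x := x) hxD
  have hVD : V ≤ D := hVD
  let l : Γ(L, V) := (φ ⟨V, hV⟩).symm (ιMulti _ n fun i => M1.mres E hVD (e i))
  have key : ∀ (Q : X.affineOpens) (hQ : Q.1 ≤ V), Function.Bijective fun r : Γ(X, Q.1) => r • M1.mres L hQ l := by
    intro Q hQ
    let eQ : Fin n → Γ(E, Q.1) := fun i => M1.mres E hQ (M1.mres E hVD (e i))
    let Φ : (Fin n → Γ(X, Q.1)) ≃ₗ[Γ(X, Q.1)] Γ(E, Q.1) :=
      LinearEquiv.ofBijective (Fintype.linearCombination Γ(X, Q.1) eQ) ((he.mres hVD) Q.1 hQ)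
    let b := Module.Basis.ofEquivFun Φ.symm
    have hb : ⇑b = eQ := funext fun i => by
      rw [Module.Basis.coe_ofEquivFun]
      show Fintype.linearCombination Γ(X, Q.1) eQ (Function.update 0 i 1) = _
      rw [show Function.update (0 : Fin n → Γ(X, Q.1)) i 1 = Pi.single i 1 from rfl,
        Fintype.linearCombination_apply_single, one_smul]
    have h1 := (φ Q).symm.bijective.comp (bijective_smul_top b)
    have h2 : (fun r : Γ(X, Q.1) => r • M1.mres L hQ l) =
        ⇑(φ Q).symm ∘ fun r : Γ(X, Q.1) => r • ιMulti Γ(X, Q.1) n (⇑b) := funext fun r => by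
      show r • M1.mres L hQ l = (φ Q).symm (r • _)
      rw [map_smul, hb, show M1.mres L hQ l = _ from hφ ⟨V, hV⟩ Q hQ _]
    rw [h2]
    exact h1
  have one : ∀ (W : X.Opens) (h : W ≤ V) (c : Fin 1 → Γ(X, W)) (Q : X.affineOpens) (hQ : Q.1 ≤ W),
      M1.mres L hQ (∑ i, c i • M1.mres L h l) = M1.ores hQ (c 0) • M1.mres L (hQ.trans h) l := fun W h c Q hQ => by
    rw [Fin.sum_univ_one, M1.mres_smul, M1.mres_mres]
  refine ⟨V, l, hxV, fun W h => ⟨fun c c' hc => ?_, fun m => ?_⟩⟩
  · have hcQ : ∀ (Q : X.affineOpens) (hQ : Q.1 ≤ W), M1.ores hQ (c 0) = M1.ores hQ (c' 0) := fun Q hQ =>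
      (key Q (hQ.trans h)).1 (by
        show M1.ores hQ (c 0) • M1.mres L (hQ.trans h) l = M1.ores hQ (c' 0) • M1.mres L (hQ.trans h) l
        rw [← one W h c Q hQ, ← one W h c' Q hQ]
        exact congrArg _ hc)
    have h0 : c 0 = c' 0 := eq_of_basis (G := Coh.structureModule X) isAffBasis_top fun Q _ hQ => hcQ Q hQ
    funext i
    rwa [Subsingleton.elim i 0]
  · choose r hr using fun (Q : X.affineOpens) (hQ : Q.1 ≤ W) => (key Q (hQ.trans h)).2 (M1.mres L hQ m)
    obtain ⟨t, ht, -⟩ := exists_glue_section isAffBasis_top (Coh.structureModule X) W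
      (fun Q _ hQ => (show Γ(Coh.structureModule X, Q.1) from r Q hQ)) fun Q _ hQ Q' _ hQ' => by
        show M1.ores hQ' (r Q hQ) = r Q' (hQ'.trans hQ)
        refine (key Q' ((hQ'.trans hQ).trans h)).1 ?_
        have := congrArg (M1.mres L hQ') (hr Q hQ)
        simp only [M1.mres_smul, M1.mres_mres] at this
        exact this.trans (hr Q' (hQ'.trans hQ)).symm
    refine ⟨fun _ => (show Γ(X, W) from t), eq_of_basis isAffBasis_top fun Q _ hQ => ?_⟩
    rw [one W h _ Q hQ]
    exact (congrArg (fun s : Γ(X, Q.1) => s • M1.mres L (hQ.trans h) l) (ht Q trivial hQ)).trans (hr Q hQ)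

/-- The top exterior power of a finite locally free module is invertible. -/
theorem isInvertible_top (hE : FlatMod.IsFinLocFreeOfRank n E) (hL : ExtPow.IsExtPow n E L) : PicF.IsInvertible L := by
  refine (M2.isInvertible_iff_isFinLocFreeOfRank_one L).2 fun x => ?_
  obtain ⟨V, l, hxV, hb⟩ := exists_isBas_top hE hL x
  have himg : V.ι ''ᵁ ⊤ = V := by simp
  obtain ⟨ψ⟩ := CurveCoh17.nonempty_iso_freeMod_of_isBas
    (CurveCoh17.isBas_restrict V.ι L (D := ⊤) (hb.mres himg.le))
  exact ⟨V, hxV, ⟨ψ.symm⟩⟩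

/-- The top exterior power of a finite locally free module is finite locally free. -/
theorem isFinLocFree_top (hE : FlatMod.IsFinLocFreeOfRank n E) (hL : ExtPow.IsExtPow n E L) :
    FlatMod.IsFinLocFree L :=
  M2.isFinLocFree_of_isInvertible (isInvertible_top hE hL)

end Groth.Agent.Wedge2
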