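import Groth.Agent.Lib.Wedge2.Props
import Groth.Agent.Lib.TensorMod.Basic

/-!
Exterior powers of quasi-coherent modules exist.
-/

set_option autoImplicit false
set_option linter.style.haveILetI false
set_option linter.unusedSectionVars false
set_option backward.isDefEq.respectTransparency false
set_option backward.isDefEq.respectTransparency.types false
set_option synthInstance.maxHeartbeats 200000
set_option maxHeartbeats 800000

universe u

open CategoryTheory Limits AlgebraicGeometry Opposite TopologicalSpace TensorProduct exteriorPower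

noncomputable section

namespace Groth.Agent.Wedge2

variable {X : Scheme.{u}} (p : ℕ) (E : X.Modules)

/-- Restriction on sectionwise exterior powers. -/
def resExt {U V : X.Opens} (h : V ≤ U) : ↥(⋀[Γ(X, U)]^p Γ(E, U)) →+ ↥(⋀[Γ(X, V)]^p Γ(E, V)) :=
  letI := resAlg h
  letI := resModule E h
  haveI := resTower E h
  (tau (B := Γ(X, V)) (resLin E h) p).toAddMonoidHom

theorem resExt_ιMulti {U V : X.Opens} (h : V ≤ U) (v : Fin p → Γ(E, U)) :
    resExt p E h (ιMulti _ p v) = ιMulti _ p fun i => M1.mres E h (v i) :=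
  letI := resAlg h
  letI := resModule E h
  haveI := resTower E h
  tau_ιMulti (resLin E h) v

theorem resExt_smul {U V : X.Opens} (h : V ≤ U) (c : Γ(X, U)) (x : ↥(⋀[Γ(X, U)]^p Γ(E, U))) :
    resExt p E h (c • x) = (M1.ores h).hom c • resExt p E h x :=
  letI := resAlg h
  letI := resModule E h
  haveI := resTower E h
  ((tau (B := Γ(X, V)) (resLin E h) p).map_smul c x).trans (algebraMap_smul Γ(X, V) c _).symm

theorem resExt_resExt {U V W : X.Opens} (h : V ≤ U) (h' : W ≤ V) (x : ↥(⋀[Γ(X, U)]^p Γ(E, U))) :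
    resExt p E h' (resExt p E h x) = resExt p E (h'.trans h) x :=
  KoszShH13.extPow_ext ((resExt p E h').comp (resExt p E h)) (resExt p E (h'.trans h)) (fun c e => by
    rw [AddMonoidHom.comp_apply, resExt_smul, resExt_smul, resExt_smul, resExt_ιMulti, resExt_ιMulti, resExt_ιMulti]
    congr 1
    · exact M1.ores_ores h h' c
    · exact congrArg (ιMulti _ p) (funext fun i => M1.mres_mres E _ _ _)) x

theorem resExt_self {U : X.Opens} (h : U ≤ U) (x : ↥(⋀[Γ(X, U)]^p Γ(E, U))) : resExt p E h x = x :=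
  KoszShH13.extPow_ext (resExt p E h) (AddMonoidHom.id _) (fun c e => by
    rw [AddMonoidHom.id_apply, resExt_smul, resExt_ιMulti]
    congr 1
    · exact M1.ores_id h c
    · exact congrArg (ιMulti _ p) (funext fun i => M1.mres_id E h _)) x

/-- The presheaf of sectionwise exterior powers. -/
def extAb : (Opens X)ᵒᵖ ⥤ AddCommGrpCat.{u} where
  obj U := AddCommGrpCat.of ↥(⋀[Γ(X, U.unop)]^p Γ(E, U.unop))
  map {U V} i := AddCommGrpCat.ofHom (resExt p E (leOfHom i.unop))
  map_id U := by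
    exact AddCommGrpCat.hom_ext (AddMonoidHom.ext fun x => resExt_self p E _ x)
  map_comp {U V W} i j := by
    exact AddCommGrpCat.hom_ext (AddMonoidHom.ext fun x =>
      (resExt_resExt p E (leOfHom i.unop) (leOfHom j.unop) x).symm)

instance extAbModule (U : (Opens X)ᵒᵖ) : Module ((X.presheaf ⋙ forget₂ CommRingCat RingCat).obj U) ((extAb p E).obj U) :=
  inferInstanceAs (Module Γ(X, U.unop) ↥(⋀[Γ(X, U.unop)]^p Γ(E, U.unop)))

/-- The presheaf of modules of exterior powers. -/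
def extPre : M2.PM X.presheaf :=
  @PresheafOfModules.ofPresheaf _ _ (X.presheaf ⋙ forget₂ CommRingCat RingCat) (extAb p E) (extAbModule p E)
    (fun _ _ i r x => resExt_smul p E (leOfHom i.unop) r x)

/-- The sheaf of exterior powers. -/
def extMod : X.Modules := (M2.shf X).obj (extPre p E)

/-- A wedge as a section. -/
def secExt (U : X.Opens) : ↥(⋀[Γ(X, U)]^p Γ(E, U)) →ₗ[Γ(X, U)] Γ(extMod p E, U) where
  toFun x := (M2.unitS (extPre p E)).app (op U) x
  map_add' x y := map_add ((M2.unitS (extPre p E)).app (op U)).hom x y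
  map_smul' c x := ((M2.unitS (extPre p E)).app (op U)).hom.map_smul c x

theorem mres_secExt {U V : X.Opens} (h : V ≤ U) (x : ↥(⋀[Γ(X, U)]^p Γ(E, U))) :
    M1.mres (extMod p E) h (secExt p E U x) = secExt p E V (resExt p E h x) :=
  (PresheafOfModules.naturality_apply (M2.unitS (extPre p E)) (homOfLE h).op x).symm

variable [hE : Coh.IsQCoh E]

theorem isLocalized_resExt {U : X.Opens} (hU : IsAffineOpen U) (g : Γ(X, U)) (x : ↥(⋀[Γ(X, U)]^p Γ(E, U))) :
    (resExt p E (X.basicOpen_le g) x = 0 → ∃ k : ℕ, g ^ k • x = 0) ∧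
      ∀ y : ↥(⋀[Γ(X, X.basicOpen g)]^p Γ(E, X.basicOpen g)), ∃ (k : ℕ) (z : ↥(⋀[Γ(X, U)]^p Γ(E, U))),
        resExt p E (X.basicOpen_le g) z = (M1.ores (X.basicOpen_le g)).hom (g ^ k) • y := by
  letI := resAlg (X.basicOpen_le g)
  letI := resModule E (X.basicOpen_le g)
  haveI := resTower E (X.basicOpen_le g)
  haveI : IsLocalization.Away g Γ(X, X.basicOpen g) := hU.isLocalization_basicOpen g
  haveI := isLocalizedModule_resLin E hU g
  haveI := isLocalizedModule_tau (B := Γ(X, X.basicOpen g)) g (resLin E (X.basicOpen_le g)) p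
  refine ⟨fun h => ?_, fun y => ?_⟩
  · obtain ⟨⟨_, k, rfl⟩, hk⟩ := (IsLocalizedModule.eq_zero_iff (Submonoid.powers g)
      (tau (B := Γ(X, X.basicOpen g)) (resLin E (X.basicOpen_le g)) p)).1 h
    exact ⟨k, hk⟩
  · obtain ⟨⟨z, ⟨_, k, rfl⟩⟩, hk⟩ := IsLocalizedModule.surj (Submonoid.powers g)
      (tau (B := Γ(X, X.basicOpen g)) (resLin E (X.basicOpen_le g)) p) y
    exact ⟨k, z, hk.symm.trans (algebraMap_smul Γ(X, X.basicOpen g) (g ^ k) y).symm⟩

theorem exists_basicOpen_eq {U : X.Opens} (hU : IsAffineOpen U) {y : X} (hy : y ∈ U) {W : X.Opens} (hW : y ∈ W) :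
    ∃ g : Γ(X, U), y ∈ X.basicOpen g ∧ X.basicOpen g ≤ W := by
  obtain ⟨g, hg, hyg⟩ := hU.exists_basicOpen_le ⟨y, hW⟩ hy
  exact ⟨g, hyg, hg⟩

theorem injective_secExt {U : X.Opens} (hU : IsAffineOpen U) : Function.Injective (secExt p E U) := by
  refine (injective_iff_map_eq_zero _).2 fun x hx => ?_
  let S : Set Γ(X, U) := {g | resExt p E (X.basicOpen_le g) x = 0}
  have hS : Ideal.span S = ⊤ := hU.self_le_iSup_basicOpen_iff.1 fun y hy => by
    have h0 : M2.stMap (M2.unitS (extPre p E)) y (M2.sg (extPre p E) U hy x) = 0 := by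
      rw [M2.stMap_sg]
      show M2.sg _ U hy (secExt p E U x) = 0
      rw [hx]; exact map_zero _
    have h1 : M2.sg (extPre p E) U hy x = M2.sg (extPre p E) U hy 0 :=
      (M2.bijective_stMap_unitS _ y).1 (h0.trans (by rw [map_zero]; exact (map_zero _).symm))
    obtain ⟨W, hyW, iU, iV, e⟩ := M2.sg_eq _ h1
    obtain ⟨g, hyg, hgW⟩ := exists_basicOpen_eq hU hy hyW
    refine Opens.mem_iSup.2 ⟨⟨g, ?_⟩, hyg⟩
    have e' : resExt p E iU x = 0 := e.trans (map_zero _)
    show resExt p E (X.basicOpen_le g) x = 0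
    rw [← resExt_resExt p E iU hgW, e', map_zero]
  refine (Submodule.mem_bot (R := Γ(X, U))).1 (Submodule.mem_of_span_eq_top_of_smul_pow_mem _ S hS x fun g => ?_)
  obtain ⟨k, hk⟩ := (isLocalized_resExt p E hU g.1 x).1 g.2
  exact ⟨k, by simpa using hk⟩

theorem exists_cover {U : X.Opens} (hU : IsAffineOpen U) (t : Γ(extMod p E, U)) :
    ∃ S : Set Γ(X, U), Ideal.span S = ⊤ ∧
      ∀ g ∈ S, ∃ x, secExt p E (X.basicOpen g) x = M1.mres (extMod p E) (X.basicOpen_le g) t := by
  refine ⟨{g | ∃ x, secExt p E (X.basicOpen g) x = M1.mres (extMod p E) (X.basicOpen_le g) t},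
    hU.self_le_iSup_basicOpen_iff.1 fun y hy => ?_, fun g hg => hg⟩
  obtain ⟨a, ha⟩ := (M2.bijective_stMap_unitS (extPre p E) y).2 (M2.sg (M2.pm (extMod p E)) U hy t)
  obtain ⟨W, hyW, x, rfl⟩ := M2.exists_sg _ a
  rw [M2.stMap_sg] at ha
  obtain ⟨W', hyW', iW, iU, e⟩ := M2.sg_eq _ ha
  obtain ⟨g, hyg, hgW⟩ := exists_basicOpen_eq hU hy hyW'
  refine Opens.mem_iSup.2 ⟨⟨g, resExt p E (hgW.trans iW) x, ?_⟩, hyg⟩
  rw [← mres_secExt, ← M1.mres_mres (extMod p E) iW hgW, ← M1.mres_mres (extMod p E) iU hgW]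
  exact congrArg (M1.mres (extMod p E) hgW) e

theorem exists_kill {U : X.Opens} (hU : IsAffineOpen U) (f : Γ(X, U)) (t : Γ(extMod p E, U))
    (h : M1.mres (extMod p E) (X.basicOpen_le f) t = 0) : ∃ n : ℕ, f ^ n • t = 0 := by
  obtain ⟨S, hS, hx⟩ := exists_cover p E hU t
  obtain ⟨s, hsS, hs⟩ := (Ideal.span_eq_top_iff_finite S).1 hS
  have key : ∀ g : s, ∃ n : ℕ, M1.mres (extMod p E) (X.basicOpen_le g.1) (f ^ n • t) = 0 := fun g => by
    obtain ⟨x, hx⟩ := hx g.1 (hsS g.2)
    have hle : X.basicOpen ((M1.ores (X.basicOpen_le g.1)).hom f) ≤ X.basicOpen f :=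
      (X.basicOpen_res f (homOfLE (X.basicOpen_le g.1)).op).le.trans inf_le_right
    have h1 : secExt p E _ (resExt p E (X.basicOpen_le ((M1.ores (X.basicOpen_le g.1)).hom f)) x) = 0 := by
      rw [← mres_secExt, hx, M1.mres_mres, ← M1.mres_mres (extMod p E) (X.basicOpen_le f) hle, h, map_zero]
    obtain ⟨n, hn⟩ := (isLocalized_resExt p E (hU.basicOpen g.1) _ x).1
      ((injective_iff_map_eq_zero _).1 (injective_secExt p E ((hU.basicOpen g.1).basicOpen _)) _ h1)
    refine ⟨n, ?_⟩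
    rw [M1.mres_smul, ← hx, map_pow, ← map_smul, hn, map_zero]
  choose n hn using key
  refine ⟨Finset.univ.sup n, eq_of_basis (P := fun V => (∃ g : s, V.1 ≤ X.basicOpen g.1) ∨ ¬ V.1 ≤ U)
    (fun O y hy => ?_) fun V hg hVU => ?_⟩
  · by_cases hyU : y ∈ U
    · obtain ⟨g, hyg⟩ := Opens.mem_iSup.1 (hU.self_le_iSup_basicOpen_iff.2 hs hyU)
      obtain ⟨V, hV, hyV, hVle⟩ := exists_isAffineOpen_mem_and_subset (U := O ⊓ X.basicOpen g.1) (x := y) ⟨hy, hyg⟩
      have hVle : V ≤ O ⊓ X.basicOpen g.1 := hVle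
      exact ⟨⟨V, hV⟩, Or.inl ⟨⟨g.1, g.2⟩, hVle.trans inf_le_right⟩, hyV, hVle.trans inf_le_left⟩
    · obtain ⟨V, hV, hyV, hVle⟩ := exists_isAffineOpen_mem_and_subset (U := O) (x := y) hy
      exact ⟨⟨V, hV⟩, Or.inr fun hVU => hyU (hVU hyV), hyV, hVle⟩
  · rcases hg with ⟨g, hg⟩ | hg
    · have e : f ^ Finset.univ.sup n • t = f ^ (Finset.univ.sup n - n g) • f ^ n g • t := by
        rw [smul_smul, ← pow_add, Nat.sub_add_cancel (Finset.le_sup (Finset.mem_univ g))]
      rw [map_zero, e, ← M1.mres_mres (extMod p E) (X.basicOpen_le g.1) hg, M1.mres_smul, hn, smul_zero, map_zero]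
    · exact absurd hVU hg

theorem surjective_secExt {U : X.Opens} (hU : IsAffineOpen U) : Function.Surjective (secExt p E U) := fun t => by
  obtain ⟨S, hS, hx⟩ := exists_cover p E hU t
  refine Submodule.mem_of_span_eq_top_of_smul_pow_mem (LinearMap.range (secExt p E U)) S hS t fun g => ?_
  obtain ⟨x, hx⟩ := hx g.1 g.2
  obtain ⟨k, z, hz⟩ := (isLocalized_resExt p E hU g.1 0).2 x
  obtain ⟨n, hn⟩ := exists_kill p E hU g.1 (g.1 ^ k • t - secExt p E U z) (by
    rw [map_sub, M1.mres_smul, mres_secExt, hz, map_smul, hx, sub_self])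
  refine ⟨n + k, g.1 ^ n • z, ?_⟩
  rw [smul_sub, sub_eq_zero] at hn
  rw [map_smul, pow_add, mul_smul]
  exact hn.symm

/-- Exterior powers of quasi-coherent modules exist. -/
theorem isExtPow_extMod : ExtPow.IsExtPow p E (extMod p E) := by
  refine ⟨fun U => (LinearEquiv.ofBijective (secExt p E U.1) ⟨injective_secExt p E U.2, surjective_secExt p E U.2⟩).symm,
    fun U V h e => ?_⟩
  rw [LinearEquiv.symm_symm, LinearEquiv.symm_symm]
  exact (mres_secExt p E h _).trans (congrArg (secExt p E V.1) (resExt_ιMulti p E h e))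

theorem isQCoh_extMod : Coh.IsQCoh (extMod p E) := isQCoh_of_isExtPow hE (isExtPow_extMod p E)

end Groth.Agent.Wedge2
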