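import Groth.Agent.Lib.Wedge2.BaseChange
import Groth.Agent.Lib.ExtFil4.Uniq
import Groth.Agent.Lib.RefHull26.Glue
import Groth.Agent.Lib.ModM1.Stalk

/-!
An exterior power is determined on a basis of affine opens.
-/

set_option autoImplicit false
set_option linter.style.haveILetI false
set_option linter.unusedSectionVars false
set_option backward.isDefEq.respectTransparency false
set_option backward.isDefEq.respectTransparency.types false
set_option maxHeartbeats 800000

universe u

open CategoryTheory Limits AlgebraicGeometry Opposite TopologicalSpace TensorProduct exteriorPower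

noncomputable section

namespace Groth.Agent.Wedge2

open KoszShH13 (IsAffBasis isAffBasis_top)

variable {X : Scheme.{u}}

/-- Sections given compatibly on a basis glue. -/
theorem exists_glue_section {P : X.affineOpens → Prop} (hP : IsAffBasis P) (G : X.Modules) (U : X.Opens)
    (s : ∀ V : X.affineOpens, P V → V.1 ≤ U → Γ(G, V.1))
    (hs : ∀ V hV hVU W hW (h : W.1 ≤ V.1), M1.mres G h (s V hV hVU) = s W hW (h.trans hVU)) :
    ∃! t : Γ(G, U), ∀ V hV hVU, M1.mres G hVU t = s V hV hVU := by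
  let ι : Type u := {V : X.affineOpens // P V ∧ V.1 ≤ U}
  have cover : U ≤ ⨆ i : ι, i.1.1 := fun x hx => by
    obtain ⟨V, hV, hxV, hVU⟩ := hP U x hx
    exact Opens.mem_iSup.2 ⟨⟨V, hV, hVU⟩, hxV⟩
  obtain ⟨t, ht, huniq⟩ := TopCat.Sheaf.existsUnique_gluing' (⟨G.presheaf, G.isSheaf⟩ : TopCat.Sheaf Ab X)
    (fun i : ι => i.1.1) U (fun i => homOfLE i.2.2) cover (fun i => s i.1 i.2.1 i.2.2)
    (fun i j => RH26.section_ext' G fun y hy => by
      obtain ⟨Z, hZ, hyZ, hZij⟩ := hP (i.1.1 ⊓ j.1.1) y hy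
      rw [TopCat.Presheaf.germ_res_apply, TopCat.Presheaf.germ_res_apply,
        ← M1.germ_mres G (hZij.trans inf_le_left) hyZ, ← M1.germ_mres G (hZij.trans inf_le_right) hyZ,
        hs i.1 i.2.1 i.2.2 Z hZ, hs j.1 j.2.1 j.2.2 Z hZ])
  exact ⟨t, fun V hV hVU => ht ⟨V, hV, hVU⟩, fun t' ht' => huniq t' fun i => ht' i.1 i.2.1 i.2.2⟩

theorem eq_of_basis {P : X.affineOpens → Prop} (hP : IsAffBasis P) {G : X.Modules} {U : X.Opens} {a b : Γ(G, U)}
    (h : ∀ V : X.affineOpens, P V → ∀ hVU : V.1 ≤ U, M1.mres G hVU a = M1.mres G hVU b) : a = b :=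
  RH26.section_ext' G fun y hy => by
    obtain ⟨V, hV, hyV, hVU⟩ := hP U y hy
    rw [← M1.germ_mres G hVU hyV, ← M1.germ_mres G hVU hyV, h V hV hVU]

section res

variable (F : X.Modules) {U V : X.Opens} (h : V ≤ U)

/-- The algebra of a restriction. -/
@[reducible] def resAlg : Algebra Γ(X, U) Γ(X, V) := (M1.ores h).hom.toAlgebra

/-- Sections over the smaller open as a module over the functions on the larger. -/
@[reducible] def resModule : Module Γ(X, U) Γ(F, V) := Module.compHom _ (M1.ores h).hom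

theorem resTower : letI := resAlg h; letI := resModule F h; IsScalarTower Γ(X, U) Γ(X, V) Γ(F, V) :=
  letI := resAlg h; letI := resModule F h; IsScalarTower.of_algebraMap_smul fun _ _ => rfl

/-- Restriction as a linear map. -/
def resLin : letI := resModule F h; Γ(F, U) →ₗ[Γ(X, U)] Γ(F, V) :=
  letI := resModule F h
  { toFun := fun s => M1.mres F h s
    map_add' := fun _ _ => map_add _ _ _
    map_smul' := fun r s => M1.mres_smul F h r s }

end res

theorem isLocalizedModule_resLin (F : X.Modules) [Coh.IsQCoh F] {U : X.Opens} (hU : IsAffineOpen U) (g : Γ(X, U)) :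
    letI := resModule F (X.basicOpen_le g)
    IsLocalizedModule (Submonoid.powers g) (resLin F (X.basicOpen_le g)) := by
  letI := resAlg (X.basicOpen_le g)
  letI := resModule F (X.basicOpen_le g)
  haveI := resTower F (X.basicOpen_le g)
  refine ⟨?_, fun t => ?_, fun {x y} hxy => ?_⟩
  · rintro ⟨_, k, rfl⟩
    haveI : IsLocalization.Away g Γ(X, X.basicOpen g) := hU.isLocalization_basicOpen g
    rw [Module.End.isUnit_iff]
    have hu : IsUnit (algebraMap Γ(X, U) Γ(X, X.basicOpen g) (g ^ k)) := by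
      rw [map_pow]; exact (IsLocalization.Away.algebraMap_isUnit g).pow k
    refine ⟨fun a b hab => hu.smul_left_cancel.1 hab,
      fun b => ⟨(↑(hu.unit⁻¹ : Γ(X, X.basicOpen g)ˣ) : Γ(X, X.basicOpen g)) • b, ?_⟩⟩
    show algebraMap Γ(X, U) Γ(X, X.basicOpen g) (g ^ k) •
      (↑(hu.unit⁻¹ : Γ(X, X.basicOpen g)ˣ) : Γ(X, X.basicOpen g)) • b = b
    rw [← mul_smul, IsUnit.mul_val_inv, one_smul]
  · obtain ⟨k, t₀, ht⟩ := M1.exists_pow_smul_eq_res_affine F hU g t
    refine ⟨⟨t₀, ⟨g ^ k, k, rfl⟩⟩, ?_⟩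
    show (M1.ores (X.basicOpen_le g) (g ^ k)) • t = M1.mres F (X.basicOpen_le g) t₀
    rw [ht, map_pow]
  · obtain ⟨n, hn⟩ := M1.exists_pow_smul_eq_zero_affine F hU g (x - y) (by
      rw [map_sub]; exact sub_eq_zero.2 hxy)
    refine ⟨⟨g ^ n, n, rfl⟩, ?_⟩
    rw [smul_sub, sub_eq_zero] at hn
    exact hn

variable {E L : X.Modules} {p : ℕ} {P : X.affineOpens → Prop}

/-- A module which is an exterior power on a basis of affine opens is an exterior power. -/
theorem isExtPow_of_basis (hP : IsAffBasis P) (hE : Coh.IsQCoh E) (hL : Coh.IsQCoh L)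
    (φ : ∀ U : X.affineOpens, P U → (⋀[Γ(X, U.1)]^p Γ(E, U.1) →ₗ[Γ(X, U.1)] Γ(L, U.1)))
    (hb : ∀ U hU, Function.Bijective (φ U hU))
    (hres : ∀ U hU V hV (h : V.1 ≤ U.1) (e : Fin p → Γ(E, U.1)),
      M1.mres L h (φ U hU (ιMulti _ p e)) = φ V hV (ιMulti _ p fun j => M1.mres E h (e j))) :
    ExtPow.IsExtPow p E L := by
  haveI := hE
  haveI := hL
  have G : ∀ (U : X.affineOpens) (v : Fin p → Γ(E, U.1)), ∃! t : Γ(L, U.1), ∀ V hV (hVU : V.1 ≤ U.1),
      M1.mres L hVU t = φ V hV (ιMulti _ p fun j => M1.mres E hVU (v j)) := fun U v =>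
    exists_glue_section hP L U.1 (fun V hV hVU => φ V hV (ιMulti _ p fun j => M1.mres E hVU (v j)))
      fun V hV hVU W hW h => (hres V hV W hW h _).trans (congrArg (fun v => φ W hW (ιMulti _ p v))
        (funext fun j => M1.mres_mres E _ _ _))
  choose t ht htu using G
  have upd : ∀ (U : X.affineOpens) (V : X.Opens) (h : V ≤ U.1) (v : Fin p → Γ(E, U.1)) [DecidableEq (Fin p)] (i) (z),
      (fun j => M1.mres E h (Function.update v i z j)) =
        Function.update (fun j => M1.mres E h (v j)) i (M1.mres E h z) := fun U V h v _ i z =>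
    funext fun j => Function.apply_update (fun _ => fun w => M1.mres E h w) v i z j
  let w : ∀ U : X.affineOpens, Γ(E, U.1) [⋀^Fin p]→ₗ[Γ(X, U.1)] Γ(L, U.1) := fun U =>
    { toFun := t U
      map_update_add' := fun v i x y => (htu U _ _ fun V hV hVU => by
        rw [map_add, ht U _ V hV hVU, ht U _ V hV hVU, upd, upd, upd, map_add, AlternatingMap.map_update_add, map_add]).symm
      map_update_smul' := fun v i c x => (htu U _ _ fun V hV hVU => by
        rw [M1.mres_smul, ht U _ V hV hVU, upd, upd, M1.mres_smul, AlternatingMap.map_update_smul, map_smul]).symm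
      map_eq_zero_of_eq' := fun v i j h hij => (htu U v 0 fun V hV hVU => by
        rw [map_zero, AlternatingMap.map_eq_zero_of_eq (ιMulti _ p) _ (congrArg (fun z => M1.mres E hVU z) h) hij,
          map_zero]).symm }
  let Ψ : ∀ U : X.affineOpens, ⋀[Γ(X, U.1)]^p Γ(E, U.1) →ₗ[Γ(X, U.1)] Γ(L, U.1) := fun U =>
    exteriorPower.alternatingMapLinearEquiv (w U)
  have hΨt : ∀ U v, Ψ U (ιMulti _ p v) = t U v := fun U v => exteriorPower.alternatingMapLinearEquiv_apply_ιMulti _ _
  have hnat : ∀ (U V : X.affineOpens) (h : V.1 ≤ U.1) (e : Fin p → Γ(E, U.1)),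
      M1.mres L h (Ψ U (ιMulti _ p e)) = Ψ V (ιMulti _ p fun j => M1.mres E h (e j)) := by
    intro U V h e
    rw [hΨt, hΨt]
    refine htu V _ _ fun W hW hWV => ?_
    rw [M1.mres_mres, ht U e W hW]
    exact congrArg (fun v => φ W hW (ιMulti _ p v)) (funext fun j => (M1.mres_mres E _ _ _).symm)
  have hPb : ∀ U, P U → Function.Bijective (Ψ U) := fun U hU => by
    have : Ψ U = φ U hU := exteriorPower.linearMap_ext (AlternatingMap.ext fun v => by
      show Ψ U (ιMulti _ p v) = φ U hU (ιMulti _ p v)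
      rw [hΨt]
      refine (htu U v _ fun V hV hVU => hres U hU V hV hVU v).symm)
    rw [this]
    exact hb U hU
  have hloc : ∀ (U : X.affineOpens) (g : Γ(X, U.1)), Function.Bijective (Ψ U) →
      Function.Bijective (Ψ ⟨X.basicOpen g, U.2.basicOpen g⟩) := fun U g hUb => by
    letI := resAlg (X.basicOpen_le g)
    letI := resModule E (X.basicOpen_le g)
    letI := resModule L (X.basicOpen_le g)
    haveI := resTower E (X.basicOpen_le g)
    haveI := resTower L (X.basicOpen_le g)
    haveI : IsLocalization.Away g Γ(X, X.basicOpen g) := U.2.isLocalization_basicOpen g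
    haveI := isLocalizedModule_resLin E U.2 g
    haveI := isLocalizedModule_resLin L U.2 g
    exact bijective_of_baseChange (σ := resLin E (X.basicOpen_le g)) (ρ := resLin L (X.basicOpen_le g)) (Ψ U)
      (Ψ ⟨X.basicOpen g, U.2.basicOpen g⟩) (hnat U ⟨X.basicOpen g, U.2.basicOpen g⟩ (X.basicOpen_le g))
      ((isLocalizedModule_iff_isBaseChange (Submonoid.powers g) Γ(X, X.basicOpen g) _).1 inferInstance)
      ((isLocalizedModule_iff_isBaseChange (Submonoid.powers g) Γ(X, X.basicOpen g) _).1 inferInstance) hUb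
  have hall : ∀ U : X.affineOpens, Function.Bijective (Ψ U) := by
    intro U
    let S : Set Γ(X, U.1) := {g | Function.Bijective (Ψ ⟨X.basicOpen g, U.2.basicOpen g⟩)}
    have hS : Ideal.span S = ⊤ := U.2.self_le_iSup_basicOpen_iff.1 fun x hx => by
      obtain ⟨V, hV, hxV, hVU⟩ := hP U.1 x hx
      obtain ⟨g, hgV, hxg⟩ := U.2.exists_basicOpen_le ⟨x, hxV⟩ hx
      refine Opens.mem_iSup.2 ⟨⟨g, ?_⟩, hxg⟩
      have e : X.basicOpen (M1.ores hVU g) = X.basicOpen g :=
        (X.basicOpen_res g (homOfLE hVU).op).trans (inf_eq_right.2 hgV)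
      have e' : (⟨X.basicOpen (M1.ores hVU g), V.2.basicOpen _⟩ : X.affineOpens) =
          ⟨X.basicOpen g, U.2.basicOpen g⟩ := Subtype.ext e
      have h := hloc V (M1.ores hVU g) (hPb V hV)
      show Function.Bijective (Ψ ⟨X.basicOpen g, U.2.basicOpen g⟩)
      rw [← e']
      exact h
    refine ⟨(injective_iff_map_eq_zero _).2 fun x hx => ?_, fun y => ?_⟩
    · refine (Submodule.mem_bot (R := Γ(X, U.1))).1
        (Submodule.mem_of_span_eq_top_of_smul_pow_mem _ S hS x fun g => ?_)
      letI := resAlg (X.basicOpen_le g.1)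
      letI := resModule E (X.basicOpen_le g.1)
      letI := resModule L (X.basicOpen_le g.1)
      haveI := resTower E (X.basicOpen_le g.1)
      haveI := resTower L (X.basicOpen_le g.1)
      haveI : IsLocalization.Away g.1 Γ(X, X.basicOpen g.1) := U.2.isLocalization_basicOpen g.1
      haveI := isLocalizedModule_resLin E U.2 g.1
      haveI := isLocalizedModule_resLin L U.2 g.1
      obtain ⟨k, hk⟩ := exists_pow_smul_eq_zero (σ := resLin E (X.basicOpen_le g.1))
        (ρ := resLin L (X.basicOpen_le g.1)) (f := g.1) (Ψ U) (Ψ ⟨X.basicOpen g.1, U.2.basicOpen g.1⟩)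
        (hnat U ⟨X.basicOpen g.1, U.2.basicOpen g.1⟩ (X.basicOpen_le g.1)) g.2.1 hx
      exact ⟨k, by simpa using hk⟩
    · refine Submodule.mem_of_span_eq_top_of_smul_pow_mem (LinearMap.range (Ψ U)) S hS y fun g => ?_
      letI := resAlg (X.basicOpen_le g.1)
      letI := resModule E (X.basicOpen_le g.1)
      letI := resModule L (X.basicOpen_le g.1)
      haveI := resTower E (X.basicOpen_le g.1)
      haveI := resTower L (X.basicOpen_le g.1)
      haveI : IsLocalization.Away g.1 Γ(X, X.basicOpen g.1) := U.2.isLocalization_basicOpen g.1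
      haveI := isLocalizedModule_resLin E U.2 g.1
      haveI := isLocalizedModule_resLin L U.2 g.1
      exact exists_pow_smul_mem (σ := resLin E (X.basicOpen_le g.1))
        (ρ := resLin L (X.basicOpen_le g.1)) (f := g.1) (Ψ U) (Ψ ⟨X.basicOpen g.1, U.2.basicOpen g.1⟩)
        (hnat U ⟨X.basicOpen g.1, U.2.basicOpen g.1⟩ (X.basicOpen_le g.1)) g.2.2 y
  refine ⟨fun U => (LinearEquiv.ofBijective (Ψ U) (hall U)).symm, fun U V h e => ?_⟩
  rw [LinearEquiv.symm_symm, LinearEquiv.symm_symm]
  exact hnat U V h e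

end Groth.Agent.Wedge2
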