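import Mathlib.LinearAlgebra.ExteriorPower.Basic
import Mathlib.LinearAlgebra.ExteriorAlgebra.Grading
import Mathlib.RingTheory.IsTensorProduct
import Mathlib.RingTheory.Localization.BaseChange
import Mathlib.RingTheory.TensorProduct.Basic
import Mathlib.LinearAlgebra.TensorProduct.Tower

/-!
# Exterior powers commute with base change
-/

set_option autoImplicit false
set_option linter.style.haveILetI false
set_option linter.unusedSectionVars false

universe u

open TensorProduct exteriorPower

namespace Groth.Agent.Wedge2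

variable {A : Type u} [CommRing A] (B : Type u) [CommRing B] [Algebra A B]
  (M : Type u) [AddCommGroup M] [Module A M]

/-- The generators of the base change of the exterior algebra. -/
noncomputable def genBC : B ⊗[A] M →ₗ[B] B ⊗[A] ExteriorAlgebra A M := (ExteriorAlgebra.ι A).baseChange B

theorem genBC_mul_add (x y : B ⊗[A] M) : genBC B M x * genBC B M y + genBC B M y * genBC B M x = 0 := by
  induction x using TensorProduct.induction_on with
  | zero => simp
  | tmul b m =>
    induction y using TensorProduct.induction_on with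
    | zero => simp
    | tmul c n =>
      simp only [genBC, LinearMap.baseChange_tmul, Algebra.TensorProduct.tmul_mul_tmul]
      rw [mul_comm c b, ← tmul_add, ExteriorAlgebra.ι_add_mul_swap, tmul_zero]
    | add y z hy hz => rw [map_add, mul_add, add_mul, add_add_add_comm, hy, hz, add_zero]
  | add x z hx hz => rw [map_add, add_mul, mul_add, add_add_add_comm, hx, hz, add_zero]

theorem genBC_sq_zero (x : B ⊗[A] M) : genBC B M x * genBC B M x = 0 := by
  induction x using TensorProduct.induction_on with
  | zero => simp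
  | tmul b m => simp [genBC, Algebra.TensorProduct.tmul_mul_tmul]
  | add x y hx hy =>
    rw [map_add, add_mul, mul_add, mul_add, hx, hy]
    simpa using genBC_mul_add B M x y

/-- The map back to the base change of the exterior algebra. -/
noncomputable def algBC : ExteriorAlgebra B (B ⊗[A] M) →ₐ[B] B ⊗[A] ExteriorAlgebra A M :=
  ExteriorAlgebra.lift B ⟨genBC B M, genBC_sq_zero B M⟩

theorem algBC_ιMulti {p : ℕ} (v : Fin p → M) :
    algBC B M (ExteriorAlgebra.ιMulti B p fun i => (1 : B) ⊗ₜ[A] v i) = 1 ⊗ₜ[A] ExteriorAlgebra.ιMulti A p v := by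
  induction p with
  | zero => simp [Algebra.TensorProduct.one_def]
  | succ p ih =>
    rw [ExteriorAlgebra.ιMulti_succ_apply, map_mul, ExteriorAlgebra.ιMulti_succ_apply]
    have e : Matrix.vecTail (fun i => (1 : B) ⊗ₜ[A] v i) = fun i => (1 : B) ⊗ₜ[A] Matrix.vecTail v i := rfl
    rw [e, ih]
    rw [algBC, ExteriorAlgebra.lift_ι_apply]
    simp [genBC, Algebra.TensorProduct.tmul_mul_tmul]

theorem injective_baseChange_subtype (p : ℕ) :
    Function.Injective ((Submodule.subtype (⋀[A]^p M)).baseChange B) := by
  let π : ExteriorAlgebra A M →ₗ[A] ⋀[A]^p M :=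
    (DirectSum.component A ℕ (fun i => ⋀[A]^i M) p).comp
      (DirectSum.decomposeLinearEquiv (fun i : ℕ => ⋀[A]^i M)).toLinearMap
  have hπ : π.comp (Submodule.subtype _) = LinearMap.id := LinearMap.ext fun x => by
    show (DirectSum.decompose (fun i : ℕ => ⋀[A]^i M) (x : ExteriorAlgebra A M)) p = x
    rw [DirectSum.decompose_coe, DirectSum.of_eq_same]
  refine Function.LeftInverse.injective (g := π.baseChange B) fun x => ?_
  rw [← LinearMap.comp_apply, ← LinearMap.baseChange_comp, hπ, LinearMap.baseChange_id, LinearMap.id_apply]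

variable {B M} {M' : Type u} [AddCommGroup M'] [Module A M'] [Module B M'] [IsScalarTower A B M']
  {σ : M →ₗ[A] M'}

/-- Exterior powers commute with base change: the additive statement. -/
theorem bijective_exterior (h : IsBaseChange B σ) (p : ℕ) (κ : B ⊗[A] ⋀[A]^p M →ₗ[B] ⋀[B]^p M')
    (hκ : ∀ v, κ (1 ⊗ₜ[A] ιMulti A p v) = ιMulti B p fun i => σ (v i)) : Function.Bijective κ := by
  have heq : (fun v : Fin p → M => fun i => h.equiv ((1 : B) ⊗ₜ[A] v i)) = fun v i => σ (v i) :=
    funext fun v => funext fun i => by rw [IsBaseChange.equiv_tmul, one_smul]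
  constructor
  · let back : ⋀[B]^p M' →ₗ[B] B ⊗[A] ExteriorAlgebra A M :=
      (algBC B M).toLinearMap.comp ((Submodule.subtype _).comp (exteriorPower.map p h.equiv.symm.toLinearMap))
    have hb : back.comp κ = (Submodule.subtype (⋀[A]^p M)).baseChange B := by
      refine TensorProduct.AlgebraTensorModule.curry_injective (LinearMap.ext fun b => ?_)
      refine exteriorPower.linearMap_ext ?_
      refine AlternatingMap.ext fun v => ?_
      show back (κ (b ⊗ₜ[A] ιMulti A p v)) = b ⊗ₜ[A] (ιMulti A p v : ExteriorAlgebra A M)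
      have : b ⊗ₜ[A] ιMulti A p v = b • ((1 : B) ⊗ₜ[A] ιMulti A p v) := by rw [smul_tmul', smul_eq_mul, mul_one]
      rw [this, map_smul, map_smul, hκ]
      simp only [back, LinearMap.comp_apply, exteriorPower.map_apply_ιMulti]
      have e : (h.equiv.symm.toLinearMap ∘ fun i => σ (v i)) = fun i => (1 : B) ⊗ₜ[A] v i := funext fun i => by
        show h.equiv.symm (σ (v i)) = _
        rw [LinearEquiv.symm_apply_eq, IsBaseChange.equiv_tmul, one_smul]
      rw [e]
      show b • algBC B M (Subtype.val (ιMulti B p fun i => (1 : B) ⊗ₜ[A] v i : ⋀[B]^p (B ⊗[A] M))) = _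
      rw [exteriorPower.ιMulti_apply_coe, algBC_ιMulti, exteriorPower.ιMulti_apply_coe, smul_tmul', smul_eq_mul, mul_one]
    have := injective_baseChange_subtype (A := A) B M p
    rw [← hb, LinearMap.coe_comp] at this
    exact this.of_comp
  · rw [← LinearMap.range_eq_top, eq_top_iff, ← exteriorPower.ιMulti_span B p M', Submodule.span_le]
    rintro _ ⟨w, rfl⟩
    have hspan : Submodule.span B (Set.range σ) = ⊤ := eq_top_iff.2 fun x _ =>
      h.inductionOn x _ (zero_mem _) (fun m => Submodule.subset_span ⟨m, rfl⟩)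
        (fun c n hn => Submodule.smul_mem _ c hn) (fun a b => add_mem)
    have key : ∀ v : Fin p → M, ιMulti B p (fun i => σ (v i)) ∈ LinearMap.range κ := fun v => ⟨_, hκ v⟩
    have gen : ∀ (k : ℕ), k ≤ p → ∀ w : Fin p → M', (∀ i : Fin p, k ≤ (i : ℕ) → w i ∈ Set.range σ) →
        ιMulti B p w ∈ LinearMap.range κ := by
      intro k
      induction k with
      | zero =>
        intro _ w hw
        choose v hv using fun i => hw i (Nat.zero_le _)
        rw [show w = fun i => σ (v i) from funext fun i => (hv i).symm]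
        exact key v
      | succ k ih =>
        intro hk w hw
        let j : Fin p := ⟨k, hk⟩
        have hj : w j ∈ Submodule.span B (Set.range σ) := hspan ▸ trivial
        let lin : M' →ₗ[B] ⋀[B]^p M' := (ιMulti B p).toMultilinearMap.toLinearMap w j
        have hle : Submodule.span B (Set.range σ) ≤ (LinearMap.range κ).comap lin := by
          rw [Submodule.span_le]
          intro m hm
          refine ih (by omega) (Function.update w j m) fun i hi => ?_
          by_cases hij : i = j
          · subst hij; simpa using hm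
          · rw [Function.update_of_ne hij]
            exact hw i (Nat.succ_le_of_lt (lt_of_le_of_ne hi fun e => hij (Fin.ext e.symm)))
        have := hle hj
        simpa [lin] using this
    exact gen p le_rfl w fun i hi => absurd i.2 (not_lt.2 hi)

/-- Exterior powers commute with base change. -/
theorem isBaseChange_exterior (h : IsBaseChange B σ) (p : ℕ) (τ : ⋀[A]^p M →ₗ[A] ⋀[B]^p M')
    (hτ : ∀ v, τ (ιMulti A p v) = ιMulti B p fun i => σ (v i)) : IsBaseChange B τ := by
  let κ : B ⊗[A] ⋀[A]^p M →ₗ[B] ⋀[B]^p M' := τ.liftBaseChange B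
  have h1 : ∀ x, κ ((1 : B) ⊗ₜ[A] x) = τ x := fun x => by simp [κ]
  exact IsBaseChange.of_equiv (LinearEquiv.ofBijective κ (bijective_exterior h p κ fun v => by rw [h1, hτ])) h1

end Groth.Agent.Wedge2

namespace Groth.Agent.Wedge2

variable {A B : Type u} [CommRing A] [CommRing B] [Algebra A B]
  {M M' : Type u} [AddCommGroup M] [Module A M] [AddCommGroup M'] [Module A M'] [Module B M'] [IsScalarTower A B M']

/-- The map on exterior powers along a semilinear map. -/
noncomputable def tau (σ : M →ₗ[A] M') (p : ℕ) : ⋀[A]^p M →ₗ[A] ⋀[B]^p M' :=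
  exteriorPower.alternatingMapLinearEquiv
    { toFun := fun v => ιMulti B p fun i => σ (v i)
      map_update_add' := fun v i x y => by
        have e : ∀ z, (fun j => σ (Function.update v i z j)) = Function.update (fun j => σ (v j)) i (σ z) :=
          fun z => funext fun j => Function.apply_update (fun _ => σ) v i z j
        rw [e, e, e, map_add, AlternatingMap.map_update_add]
      map_update_smul' := fun v i c x => by
        have e : ∀ z, (fun j => σ (Function.update v i z j)) = Function.update (fun j => σ (v j)) i (σ z) :=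
          fun z => funext fun j => Function.apply_update (fun _ => σ) v i z j
        rw [e, e, map_smul, ← algebraMap_smul B c (σ x), AlternatingMap.map_update_smul, algebraMap_smul]
      map_eq_zero_of_eq' := fun v i j h hij => AlternatingMap.map_eq_zero_of_eq _ _ (congrArg σ h) hij }

theorem tau_ιMulti (σ : M →ₗ[A] M') {p : ℕ} (v : Fin p → M) :
    tau (B := B) σ p (ιMulti A p v) = ιMulti B p fun i => σ (v i) := by
  simp [tau]

theorem isBaseChange_tau {σ : M →ₗ[A] M'} (h : IsBaseChange B σ) (p : ℕ) : IsBaseChange B (tau (B := B) σ p) :=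
  isBaseChange_exterior h p _ (tau_ιMulti σ)

/-- Exterior powers commute with localisation. -/
theorem isLocalizedModule_tau (f : A) [IsLocalization.Away f B] (σ : M →ₗ[A] M')
    [IsLocalizedModule (Submonoid.powers f) σ] (p : ℕ) :
    IsLocalizedModule (Submonoid.powers f) (tau (B := B) σ p) := by
  refine (isLocalizedModule_iff_isBaseChange (Submonoid.powers f) B _).2 ?_
  exact isBaseChange_tau ((isLocalizedModule_iff_isBaseChange (Submonoid.powers f) B σ).1 inferInstance) p

variable {N N' : Type u} [AddCommGroup N] [Module A N] [AddCommGroup N'] [Module A N'] [Module B N'] [IsScalarTower A B N']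
  {σ : M →ₗ[A] M'} {ρ : N →ₗ[A] N'} {p : ℕ} (Ψ : ⋀[A]^p M →ₗ[A] N) (Ψ' : ⋀[B]^p M' →ₗ[B] N')
  (hc : ∀ v, ρ (Ψ (ιMulti A p v)) = Ψ' (ιMulti B p fun i => σ (v i)))

include hc

theorem comp_tau (x : ⋀[A]^p M) : Ψ' (tau (B := B) σ p x) = ρ (Ψ x) := by
  have h : (Ψ'.restrictScalars A).comp (tau (B := B) σ p) = ρ.comp Ψ := by
    refine exteriorPower.linearMap_ext (AlternatingMap.ext fun v => ?_)
    show Ψ' (tau (B := B) σ p (ιMulti A p v)) = ρ (Ψ (ιMulti A p v))
    rw [tau_ιMulti, hc]
  exact LinearMap.congr_fun h x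

/-- Bijectivity passes to base changes. -/
theorem bijective_of_baseChange (hσ : IsBaseChange B σ) (hρ : IsBaseChange B ρ) (hΨ : Function.Bijective Ψ) :
    Function.Bijective Ψ' := by
  have hτ := isBaseChange_tau hσ p
  let e := (hτ.equiv.symm.trans ((LinearEquiv.ofBijective Ψ hΨ).baseChange A B)).trans hρ.equiv
  have : Ψ' = e.toLinearMap := hτ.algHom_ext _ _ fun x => by
    rw [comp_tau Ψ Ψ' hc]
    simp [e, IsBaseChange.equiv_symm_apply, IsBaseChange.equiv_tmul]
  rw [this]
  exact e.bijective

variable {f : A} [IsLocalization.Away f B] [IsLocalizedModule (Submonoid.powers f) σ]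
  [IsLocalizedModule (Submonoid.powers f) ρ]

theorem exists_pow_smul_eq_zero (hΨ' : Function.Injective Ψ') {x : ⋀[A]^p M} (hx : Ψ x = 0) :
    ∃ k : ℕ, f ^ k • x = 0 := by
  haveI := isLocalizedModule_tau (B := B) f σ p
  have : tau (B := B) σ p x = 0 := hΨ' (by rw [comp_tau Ψ Ψ' hc, hx, map_zero, map_zero])
  obtain ⟨⟨_, k, rfl⟩, hk⟩ := (IsLocalizedModule.eq_zero_iff (Submonoid.powers f) _).1 this
  exact ⟨k, hk⟩

theorem exists_pow_smul_mem (hΨ' : Function.Surjective Ψ') (y : N) : ∃ k : ℕ, f ^ k • y ∈ LinearMap.range Ψ := by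
  haveI := isLocalizedModule_tau (B := B) f σ p
  obtain ⟨z, hz⟩ := hΨ' (ρ y)
  obtain ⟨⟨x, ⟨_, k, rfl⟩⟩, hk⟩ := IsLocalizedModule.surj (Submonoid.powers f) (tau (B := B) σ p) z
  have e : ρ (f ^ k • y) = ρ (Ψ x) := by
    rw [map_smul, ← hz, ← comp_tau Ψ Ψ' hc, ← hk]
    exact (LinearMap.map_smul_of_tower Ψ' (f ^ k) z).symm
  obtain ⟨⟨_, l, rfl⟩, hl⟩ := (IsLocalizedModule.eq_iff_exists (Submonoid.powers f) ρ).1 e
  refine ⟨l + k, f ^ l • x, ?_⟩
  rw [map_smul, pow_add, mul_smul]
  exact hl.symm

end Groth.Agent.Wedge2
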