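import Groth.Agent.Lib.Wedge2.Basic
import Groth.Agent.Lib.PP12.AffineOps
import Groth.Agent.Lib.ModM1.QcohCrit
import Groth.Agent.Lib.ModM1.Pull

/-!
Exterior powers pull back.
-/

set_option autoImplicit false
set_option linter.style.haveILetI false
set_option linter.unusedSectionVars false
set_option backward.isDefEq.respectTransparency false
set_option backward.isDefEq.respectTransparency.types false
set_option maxHeartbeats 800000
set_option synthInstance.maxHeartbeats 200000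

universe u

open CategoryTheory Limits AlgebraicGeometry Opposite TopologicalSpace TensorProduct exteriorPower

noncomputable section

namespace Groth.Agent.Wedge2

open KoszShH13 (IsAffBasis isAffBasis_top)

variable {X Y : Scheme.{u}} (g : Y ⟶ X)

/-- The inverse image of a section. -/
def pl (E : X.Modules) {U : X.Opens} {V : Y.Opens} (h : V ≤ g ⁻¹ᵁ U) (s : Γ(E, U)) :
    Γ((Scheme.Modules.pullback g).obj E, V) :=
  M1.mres ((Scheme.Modules.pullback g).obj E) h ((PP12.unitTo g E).app U s)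

theorem mres_pl (E : X.Modules) {U U' : X.Opens} {V V' : Y.Opens} (h : V ≤ g ⁻¹ᵁ U) (h' : V' ≤ g ⁻¹ᵁ U')
    (hU : U' ≤ U) (hV : V' ≤ V) (s : Γ(E, U)) :
    M1.mres ((Scheme.Modules.pullback g).obj E) hV (pl g E h s) = pl g E h' (M1.mres E hU s) := by
  rw [pl, pl, M1.map_app_eq]
  show _ = M1.mres ((Scheme.Modules.pullback g).obj E) h'
    (M1.mres ((Scheme.Modules.pullback g).obj E) (fun y hy => hU hy : g ⁻¹ᵁ U' ≤ g ⁻¹ᵁ U) ((PP12.unitTo g E).app U s))
  rw [M1.mres_mres, M1.mres_mres]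

variable {E L : X.Modules} {p : ℕ} {g}

/-- What the comparison over a pair of affine opens satisfies. -/
def IsPullMap (φ : ∀ U : X.affineOpens, Γ(L, U.1) ≃ₗ[Γ(X, U.1)] ↥(⋀[Γ(X, U.1)]^p Γ(E, U.1)))
    (U : X.affineOpens) (V : Y.affineOpens) (h : V.1 ≤ g ⁻¹ᵁ U.1)
    (Ψ : ⋀[Γ(Y, V.1)]^p Γ((Scheme.Modules.pullback g).obj E, V.1) →ₗ[Γ(Y, V.1)]
      Γ((Scheme.Modules.pullback g).obj L, V.1)) : Prop :=
  ∀ v : Fin p → Γ(E, U.1), Ψ (ιMulti _ p fun j => pl g E h (v j)) = pl g L h ((φ U).symm (ιMulti _ p v))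

variable (φ : ∀ U : X.affineOpens, Γ(L, U.1) ≃ₗ[Γ(X, U.1)] ↥(⋀[Γ(X, U.1)]^p Γ(E, U.1)))

theorem exists_pullMap (hE : Coh.IsQCoh E) (hL : Coh.IsQCoh L) (U : X.affineOpens) (V : Y.affineOpens)
    (h : V.1 ≤ g ⁻¹ᵁ U.1) : ∃ Ψ, IsPullMap φ U V h Ψ ∧ Function.Bijective Ψ := by
  letI : Algebra Γ(X, U.1) Γ(Y, V.1) := (g.appLE U.1 V.1 h).hom.toAlgebra
  letI := PullBC11.baseModule (g := g) ((Scheme.Modules.pullback g).obj E) h
  letI := PullBC11.baseModule (g := g) ((Scheme.Modules.pullback g).obj L) h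
  haveI : IsScalarTower Γ(X, U.1) Γ(Y, V.1) Γ((Scheme.Modules.pullback g).obj E, V.1) :=
    IsScalarTower.of_algebraMap_smul fun _ _ => rfl
  haveI : IsScalarTower Γ(X, U.1) Γ(Y, V.1) Γ((Scheme.Modules.pullback g).obj L, V.1) :=
    IsScalarTower.of_algebraMap_smul fun _ _ => rfl
  have hσ : IsBaseChange Γ(Y, V.1) (PullBC11.sect (PP12.unitTo g E) h) := PP12.isBC_unit g hE U.2 V.2 h
  have hρ : IsBaseChange Γ(Y, V.1) (PullBC11.sect (PP12.unitTo g L) h) := PP12.isBC_unit g hL U.2 V.2 h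
  have hτ := isBaseChange_tau hσ p
  let Ψ := hτ.lift ((PullBC11.sect (PP12.unitTo g L) h).comp (φ U).symm.toLinearMap)
  have hΨ : IsPullMap φ U V h Ψ := fun v => by
    have := hτ.lift_eq ((PullBC11.sect (PP12.unitTo g L) h).comp (φ U).symm.toLinearMap) (ιMulti _ p v)
    rw [tau_ιMulti] at this
    exact this
  exact ⟨Ψ, hΨ, bijective_of_baseChange (φ U).symm.toLinearMap Ψ (fun v => (hΨ v).symm) hσ hρ (φ U).symm.bijective⟩

theorem pullMap_res (hE : Coh.IsQCoh E)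
    (hφ : ∀ (U V : X.affineOpens) (h : V.1 ≤ U.1) (e : Fin p → Γ(E, U.1)),
      M1.mres L h ((φ U).symm (ιMulti _ p e)) = (φ V).symm (ιMulti _ p fun j => M1.mres E h (e j)))
    {U U' : X.affineOpens} {V V' : Y.affineOpens} {h : V.1 ≤ g ⁻¹ᵁ U.1} {h' : V'.1 ≤ g ⁻¹ᵁ U'.1}
    (hU : U'.1 ≤ U.1) (hV : V'.1 ≤ V.1) {Ψ Ψ'} (hΨ : IsPullMap φ U V h Ψ) (hΨ' : IsPullMap φ U' V' h' Ψ')
    (e : Fin p → Γ((Scheme.Modules.pullback g).obj E, V.1)) :
    M1.mres ((Scheme.Modules.pullback g).obj L) hV (Ψ (ιMulti _ p e)) =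
      Ψ' (ιMulti _ p fun j => M1.mres ((Scheme.Modules.pullback g).obj E) hV (e j)) := by
  let F := (Scheme.Modules.pullback g).obj E
  let G := (Scheme.Modules.pullback g).obj L
  letI : Algebra Γ(X, U.1) Γ(Y, V.1) := (g.appLE U.1 V.1 h).hom.toAlgebra
  letI := PullBC11.baseModule (g := g) F h
  haveI : IsScalarTower Γ(X, U.1) Γ(Y, V.1) Γ(F, V.1) := IsScalarTower.of_algebraMap_smul fun _ _ => rfl
  letI := resAlg hV
  letI := resModule F hV
  letI := resModule G hV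
  haveI := resTower F hV
  haveI := resTower G hV
  have hτ := isBaseChange_tau (PP12.isBC_unit g hE U.2 V.2 h : IsBaseChange Γ(Y, V.1) (PullBC11.sect (PP12.unitTo g E) h)) p
  have key : (resLin G hV).comp Ψ = (Ψ'.restrictScalars Γ(Y, V.1)).comp (tau (B := Γ(Y, V'.1)) (resLin F hV) p) := by
    refine hτ.algHom_ext _ _ fun x => ?_
    have hx : x ∈ Submodule.span Γ(X, U.1) (Set.range (ιMulti Γ(X, U.1) p (M := Γ(E, U.1)))) := by
      rw [ιMulti_span]; trivial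
    induction hx using Submodule.span_induction with
    | zero => simp only [map_zero]
    | add a b _ _ ha hb => simp only [map_add, ha, hb]
    | smul c a _ ha =>
      rw [map_smul, ← algebraMap_smul Γ(Y, V.1) c (tau (B := Γ(Y, V.1)) (PullBC11.sect (PP12.unitTo g E) h) p a),
        map_smul, map_smul, ha]
    | mem a ha =>
      obtain ⟨v, rfl⟩ := ha
      rw [tau_ιMulti, LinearMap.comp_apply, LinearMap.comp_apply, LinearMap.restrictScalars_apply, tau_ιMulti]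
      show M1.mres G hV (Ψ (ιMulti _ p fun j => pl g E h (v j))) =
        Ψ' (ιMulti _ p fun j => M1.mres F hV (pl g E h (v j)))
      rw [hΨ v, mres_pl g L h h' hU hV, hφ U U' hU v, ← hΨ' fun j => M1.mres E hU (v j)]
      exact congrArg (fun w => Ψ' (ιMulti _ p w)) (funext fun j => (mres_pl g E h h' hU hV (v j)).symm)
  have := LinearMap.congr_fun key (ιMulti _ p e)
  rw [LinearMap.comp_apply, LinearMap.comp_apply, LinearMap.restrictScalars_apply, tau_ιMulti] at this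
  exact this

/-- The inverse image of an exterior power is an exterior power. -/
theorem isExtPow_pullback (g : Y ⟶ X) (hE : Coh.IsQCoh E) (hLq : Coh.IsQCoh L) (hL : ExtPow.IsExtPow p E L) :
    ExtPow.IsExtPow p ((Scheme.Modules.pullback g).obj E) ((Scheme.Modules.pullback g).obj L) := by
  obtain ⟨φ, hφ⟩ := ExtFil4.exists_phi hL
  let P : Y.affineOpens → Prop := fun V => ∃ U : X.affineOpens, V.1 ≤ g ⁻¹ᵁ U.1
  have hP : IsAffBasis P := fun O y hy => by
    obtain ⟨U, -, hyU, -⟩ := isAffBasis_top (X := X) ⊤ (g y) trivial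
    obtain ⟨V, -, hyV, hV⟩ := isAffBasis_top (X := Y) (O ⊓ g ⁻¹ᵁ U.1) y ⟨hy, hyU⟩
    exact ⟨V, ⟨U, hV.trans inf_le_right⟩, hyV, hV.trans inf_le_left⟩
  choose Ψ hΨ hb using fun (V : Y.affineOpens) (hV : P V) => exists_pullMap (g := g) φ hE hLq hV.choose V hV.choose_spec
  refine isExtPow_of_basis hP (M1.isQCoh_pullback g hE) (M1.isQCoh_pullback g hLq) Ψ hb fun V hV W hW h e => ?_
  let P' : Y.affineOpens → Prop := fun Z => Z.1 ≤ W.1 →
    ∃ U : X.affineOpens, U.1 ≤ hV.choose.1 ⊓ hW.choose.1 ∧ Z.1 ≤ g ⁻¹ᵁ U.1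
  have hP' : IsAffBasis P' := fun O y hy => by
    by_cases hyW : y ∈ W.1
    · obtain ⟨U, -, hyU, hU⟩ := isAffBasis_top (hV.choose.1 ⊓ hW.choose.1) (g y)
        ⟨hV.choose_spec (h hyW), hW.choose_spec hyW⟩
      obtain ⟨Z, -, hyZ, hZ⟩ := isAffBasis_top (O ⊓ (W.1 ⊓ g ⁻¹ᵁ U.1)) y ⟨hy, hyW, hyU⟩
      exact ⟨Z, fun _ => ⟨U, hU, hZ.trans (inf_le_right.trans inf_le_right)⟩, hyZ, hZ.trans inf_le_left⟩
    · obtain ⟨Z, -, hyZ, hZ⟩ := isAffBasis_top O y hy
      exact ⟨Z, fun hZW => absurd (hZW hyZ) hyW, hyZ, hZ⟩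
  refine eq_of_basis hP' fun Z hZ hZW => ?_
  obtain ⟨U, hU, hZU⟩ := hZ hZW
  obtain ⟨Θ, hΘ, -⟩ := exists_pullMap (g := g) φ hE hLq U Z hZU
  rw [pullMap_res φ hE hφ (hU.trans inf_le_right) hZW (hΨ W hW) hΘ, M1.mres_mres,
    pullMap_res φ hE hφ (hU.trans inf_le_left) (hZW.trans h) (hΨ V hV) hΘ]
  exact congrArg (fun w => Θ (ιMulti _ p w)) (funext fun j => (M1.mres_mres _ _ _ _).symm)

end Groth.Agent.Wedge2
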